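import Cfsg.Agent.BlockCharsA.TateReal
import Cfsg.Agent.BlockCharsA.CoprimeComplement
import Cfsg.Agent.OddChar.Clifford
import Cfsg.Agent.S0854
import Cfsg.Agent.S1489
import Cfsg.Agent.S0161

/-!
Real irreducible characters of odd degree: constituents, inflation, kernels.
-/

set_option autoImplicit false
set_option linter.style.haveILetI false
set_option linter.unusedSectionVars false

namespace Cfsg.Agent.BlockCharsA.RealOdd

open Cfsg.Agent.Characters Cfsg.Agent.CharTheory
open scoped ComplexConjugate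

universe u v

/-- A function with real values. -/
def IsReal {X : Type v} (f : X → ℂ) : Prop := ∀ x, (f x).im = 0

theorem isReal_iff {X : Type v} {f : X → ℂ} : IsReal f ↔ (fun x => conj (f x)) = f := by
  refine ⟨fun h => funext fun x => Complex.conj_eq_iff_im.mpr (h x), fun h x => ?_⟩
  exact Complex.conj_eq_iff_im.mp (congrFun h x)

/-- The real-valued irreducible characters of odd degree. -/
abbrev RO (G : Type u) [Group G] : Type u :=
  {χ : Cfsg.IrrCharacter G // IsReal (χ : G → ℂ) ∧ Odd (Cfsg.charDegree (χ : G → ℂ))}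

/-- A linear character as a function. -/
def lin {G : Type u} [Group G] (η : G →* ℂˣ) : G → ℂ := fun g => (η g : ℂ)

theorem lin_irr {G : Type u} [Group G] (η : G →* ℂˣ) : Cfsg.IsIrrCharacter G (lin η) :=
  isIrrCharacter_linear η

theorem sq_eq_one_real {G : Type u} [Group G] (η : G →* ℂˣ) (h : ∀ g, η g ^ 2 = 1) :
    IsReal (lin η) := by
  intro g
  have h2 : (η g : ℂ) ^ 2 = 1 := by rw [← Units.val_pow_eq_pow_val, h g, Units.val_one]
  rcases sq_eq_one_iff.mp h2 with h3 | h3 <;> simp [lin, h3]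

theorem real_sq_eq_one {G : Type u} [Group G] [Finite G] (η : G →* ℂˣ) (h : IsReal (lin η))
    (g : G) : η g ^ 2 = 1 := by
  refine Units.ext ?_
  rw [Units.val_pow_eq_pow_val, Units.val_one, pow_two]
  conv_lhs =>
    arg 2
    rw [← show conj (η g : ℂ) = (η g : ℂ) from Complex.conj_eq_iff_im.mpr (h g)]
  show (η g : ℂ) * conj (η g : ℂ) = 1
  rw [Complex.mul_conj', linear_norm_eq_one]
  simp

section

variable {G : Type u} [Group G]

theorem charDegree_congr {H : Type v} [Group H] {χ : G → ℂ} {ψ : H → ℂ} (h : χ 1 = ψ 1) :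
    Cfsg.charDegree χ = Cfsg.charDegree ψ := by
  unfold Cfsg.charDegree
  rw [h]

theorem charDegree_eq {χ : G → ℂ} {d : ℕ} (h : χ 1 = (d : ℂ)) : Cfsg.charDegree χ = d := by
  unfold Cfsg.charDegree
  rw [h]
  simp

variable [Fintype G]

/-- A character of odd degree has a constituent of odd degree, and a real one if it is real. -/
theorem exists_odd_constituent {Φ : G → ℂ} (hΦ : Cfsg.IsCharacter G Φ) {d : ℕ}
    (hd : Φ 1 = (d : ℂ)) (hodd : Odd d) :
    ∃ χ : Cfsg.IrrCharacter G, Cfsg.classInner Φ (χ : G → ℂ) ≠ 0 ∧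
      Odd (Cfsg.charDegree (χ : G → ℂ)) ∧ (IsReal Φ → IsReal (χ : G → ℂ)) := by
  classical
  haveI := Fintype.ofFinite (Cfsg.IrrCharacter G)
  choose n hn using fun χ : Cfsg.IrrCharacter G => classInner_char_nat hΦ (irr_isCharacter χ)
  have htot : ∑ χ, n χ * Cfsg.charDegree (χ : G → ℂ) = d := by
    apply Nat.cast_injective (R := ℂ)
    have h := congrFun (classFun_eq_sum (char_isClassFunction hΦ)) 1
    simp only [Finset.sum_apply, Pi.smul_apply, smul_eq_mul, hn, hd] at h
    rw [Nat.cast_sum]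
    simp only [Nat.cast_mul, Blocks.charDegree_cast]
    exact h.symm
  have hfin : ∀ χ, Odd (n χ * Cfsg.charDegree (χ : G → ℂ)) →
      Cfsg.classInner Φ (χ : G → ℂ) ≠ 0 ∧ Odd (Cfsg.charDegree (χ : G → ℂ)) := fun χ h =>
    ⟨by rw [hn, Ne, Nat.cast_eq_zero]; intro h0; simp [h0] at h, (Nat.odd_mul.mp h).2⟩
  by_cases hr : IsReal Φ
  · let σ : Cfsg.IrrCharacter G → Cfsg.IrrCharacter G := fun χ =>
      ⟨fun g => conj ((χ : G → ℂ) g), isIrrCharacter_conj χ.2⟩
    have hσ : Function.Involutive σ := fun χ =>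
      Subtype.ext (funext fun g => Complex.conj_conj _)
    have hnσ : ∀ χ, n (σ χ) = n χ := fun χ => by
      apply Nat.cast_injective (R := ℂ)
      rw [← hn, ← Complex.conj_natCast (n χ), ← hn, ← classInner_conj_conj,
        (isReal_iff.mp hr : (fun g => conj (Φ g)) = Φ)]
    have hdσ : ∀ χ, Cfsg.charDegree (σ χ : G → ℂ) = Cfsg.charDegree (χ : G → ℂ) := fun χ => by
      simp [σ, Cfsg.charDegree]
    obtain ⟨χ, -, hfix, ho⟩ := TateReal.exists_fixed_odd σ hσ
      (fun χ => n χ * Cfsg.charDegree (χ : G → ℂ)) (fun χ => by rw [hnσ, hdσ])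
      (s := Finset.univ) (fun _ _ => Finset.mem_univ _) (htot ▸ hodd)
    exact ⟨χ, (hfin χ ho).1, (hfin χ ho).2,
      fun _ => isReal_iff.mpr (congrArg Subtype.val hfix)⟩
  · obtain ⟨χ, -, -, ho⟩ := TateReal.exists_fixed_odd id (fun _ => rfl)
      (fun χ => n χ * Cfsg.charDegree (χ : G → ℂ)) (fun _ => rfl)
      (s := Finset.univ) (fun _ _ => Finset.mem_univ _) (htot ▸ hodd)
    exact ⟨χ, (hfin χ ho).1, (hfin χ ho).2, fun h => absurd h hr⟩

/-- A linear constituent on a `2`-subgroup. -/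
theorem exists_linear_constituent (Q : Subgroup G) [Fintype Q] (hQ : IsPGroup 2 Q)
    {χ : Cfsg.IrrCharacter G} (hodd : Odd (Cfsg.charDegree (χ : G → ℂ))) :
    ∃ η : Q →* ℂˣ, Cfsg.classInner (fun x : Q => (χ : G → ℂ) x) (lin η) ≠ 0 ∧
      (IsReal (χ : G → ℂ) → ∀ x, η x ^ 2 = 1) := by
  obtain ⟨ψ, hψ, ho, hr⟩ := exists_odd_constituent (isCharacter_restrict Q (irr_isCharacter χ))
    (d := Cfsg.charDegree (χ : G → ℂ)) (Blocks.charDegree_cast χ).symm hodd
  have h1 : (ψ : Q → ℂ) 1 = 1 := by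
    obtain ⟨i, hi⟩ := IsPGroup.iff_card.mp hQ
    have hdvd := Blocks.char_degree_dvd_card ψ
    rw [hi] at hdvd
    obtain ⟨e, -, he⟩ := (Nat.dvd_prime_pow Nat.prime_two).mp hdvd
    rw [he] at ho
    rcases Nat.eq_zero_or_pos e with rfl | he0
    · rw [← Blocks.charDegree_cast ψ, he]; simp
    · exact absurd ho (Nat.not_odd_iff_even.mpr (Nat.even_pow.mpr ⟨even_two, he0.ne'⟩))
  refine ⟨linearOfDegreeOne (irr_isCharacter ψ) h1, hψ, fun hreal => real_sq_eq_one _ ?_⟩
  exact hr fun x => hreal x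

/-- Constituents of constituents. -/
theorem inner_trans {Q V : Subgroup G} (hVQ : V ≤ Q) [Fintype Q] [Fintype V] {Φ : G → ℂ}
    (hΦ : Cfsg.IsCharacter G Φ) {η : Q → ℂ} (hη : Cfsg.IsIrrCharacter Q η) {φ : V → ℂ}
    (hφ : Cfsg.IsCharacter V φ) (h1 : Cfsg.classInner (fun q : Q => Φ q) η ≠ 0)
    (h2 : Cfsg.classInner (fun v : V => η ⟨(v : G), hVQ v.2⟩) φ ≠ 0) :
    Cfsg.classInner (fun v : V => Φ v) φ ≠ 0 := by
  classical
  haveI := Fintype.ofFinite (V.subgroupOf Q)
  let e := Subgroup.subgroupOfEquivOfLe hVQ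
  have h := Clifford.classInner_restrict_ne_zero (V.subgroupOf Q) (isCharacter_restrict Q hΦ) hη
    (isCharacter_comp e.toMonoidHom hφ) h1 (φ := φ ∘ e)
    (by rw [← Basics.classInner_comp_equiv e] at h2; exact h2)
  rw [← Basics.classInner_comp_equiv e (fun v : V => Φ v) φ]
  exact h

theorem inner_ind_self {T : Subgroup G} [Fintype T] {ψ : T → ℂ}
    (hind : Cfsg.IsIrrCharacter G (Cfsg.indFun T ψ)) :
    Cfsg.classInner (fun t : T => Cfsg.indFun T ψ t) ψ ≠ 0 := by
  have h := frobenius_reciprocity' T ψ (char_isClassFunction (isCharacter_of_isIrr hind))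
  rw [← h, classInner_isIrr_self hind]
  exact one_ne_zero

theorem isReal_indFun {T : Subgroup G} {ψ : T → ℂ} (h : IsReal ψ) :
    IsReal (Cfsg.indFun T ψ) := by
  refine isReal_iff.mpr (funext fun g => ?_)
  unfold Cfsg.indFun
  rw [map_mul, map_inv₀, Complex.conj_natCast, map_sum]
  refine congrArg _ (Finset.sum_congr rfl fun x _ => ?_)
  by_cases hx : x⁻¹ * g * x ∈ T
  · rw [IndBasic.extendByZero_of_mem T ψ hx]
    exact Complex.conj_eq_iff_im.mpr (h _)
  · rw [IndBasic.extendByZero_of_notMem T ψ hx, map_zero]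

theorem indFun_conj {T : Subgroup G} (ψ : T → ℂ) :
    Cfsg.indFun T (fun t => conj (ψ t)) = fun g => conj (Cfsg.indFun T ψ g) := by
  funext g
  unfold Cfsg.indFun
  rw [map_mul, map_inv₀, Complex.conj_natCast, map_sum]
  refine congrArg _ (Finset.sum_congr rfl fun x _ => ?_)
  by_cases hx : x⁻¹ * g * x ∈ T
  · rw [IndBasic.extendByZero_of_mem T _ hx, IndBasic.extendByZero_of_mem T _ hx]
  · rw [IndBasic.extendByZero_of_notMem T _ hx, IndBasic.extendByZero_of_notMem T _ hx, map_zero]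

end

/-! ## Inflation -/

section Inflation

variable {G : Type u} [Group G] [Finite G] {H : Type u} [Group H]

/-- Inflation along a surjection. -/
theorem card_RO_surjective (f : G →* H) (hf : Function.Surjective f) :
    Nat.card (RO H) =
      Nat.card {χ : RO G // ∀ x ∈ f.ker, (χ.1 : G → ℂ) x = (χ.1 : G → ℂ) 1} := by
  refine Nat.card_eq_of_bijective
    (fun ψ => ⟨⟨⟨(ψ.1 : H → ℂ) ∘ f, isIrrCharacter_comp_surjective f hf ψ.1.2⟩,
        fun g => ψ.2.1 (f g), by
          rw [charDegree_congr (ψ := (ψ.1 : H → ℂ)) (by simp)]; exact ψ.2.2⟩,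
      fun x hx => by simp [MonoidHom.mem_ker.mp hx]⟩) ⟨fun a b h => ?_, fun χ => ?_⟩
  · refine Subtype.ext (Subtype.ext (funext fun y => ?_))
    obtain ⟨x, rfl⟩ := hf y
    exact congrFun (congrArg (fun z => ((z.1).1 : G → ℂ)) h) x
  · obtain ⟨ψ, -, hψf, hirr⟩ := exists_deflate f hf (irr_isCharacter χ.1.1) χ.2
    refine ⟨⟨⟨ψ, hirr χ.1.1.2⟩, fun y => ?_, ?_⟩, Subtype.ext (Subtype.ext (Subtype.ext hψf))⟩
    · obtain ⟨x, rfl⟩ := hf y
      show (ψ (f x)).im = 0
      rw [show ψ (f x) = (χ.1.1 : G → ℂ) x from congrFun hψf x]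
      exact χ.1.2.1 x
    · rw [charDegree_congr (ψ := (χ.1.1 : G → ℂ)) (by
        rw [← congrFun hψf 1, Function.comp_apply, map_one])]
      exact χ.1.2.2

theorem card_RO_congr (e : G ≃* H) : Nat.card (RO H) = Nat.card (RO G) := by
  rw [card_RO_surjective e.toMonoidHom e.surjective]
  refine Nat.card_congr (Equiv.subtypeUnivEquiv fun χ x hx => ?_)
  rw [show x = 1 from e.injective ((MonoidHom.mem_ker.mp hx).trans (map_one e).symm)]

end Inflation

/-! ## Kernels -/

section Kernel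

variable {G : Type u} [Group G] [Fintype G] (M : Subgroup G) [hM : M.Normal] [Fintype M]

theorem ker_of_trivial {χ : Cfsg.IrrCharacter G}
    (h : Cfsg.classInner (fun m : M => (χ : G → ℂ) m) (fun _ => 1) ≠ 0) (x : G) (hx : x ∈ M) :
    (χ : G → ℂ) x = (χ : G → ℂ) 1 := by
  have h1 : Cfsg.IsIrrCharacter M (fun _ => 1) := isIrrCharacter_linear (1 : M →* ℂˣ)
  have hres := Clifford.restrict_eq_smul_of_invariant M χ.2 h1 h fun g => funext fun m => rfl
  have ha := congrFun hres ⟨x, hx⟩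
  have hb := congrFun hres 1
  simp only [Pi.smul_apply, smul_eq_mul, mul_one, OneMemClass.coe_one] at ha hb
  rw [ha, hb]

/-- A real character of odd degree is trivial on a normal subgroup of odd order. -/
theorem real_odd_ker (hodd : Odd (Nat.card M)) {χ : Cfsg.IrrCharacter G}
    (hr : IsReal (χ : G → ℂ)) (ho : Odd (Cfsg.charDegree (χ : G → ℂ))) (x : G) (hx : x ∈ M) :
    (χ : G → ℂ) x = (χ : G → ℂ) 1 := by
  obtain ⟨θ, hθ, -, hθr⟩ := exists_odd_constituent (isCharacter_restrict M (irr_isCharacter χ))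
    (d := Cfsg.charDegree (χ : G → ℂ)) (Blocks.charDegree_cast χ).symm ho
  have h1 := Cfsg.Agent.S0161.result hodd θ (hθr fun m => hr m)
  rw [h1] at hθ
  exact ker_of_trivial M hθ x hx

/-- A surjection whose kernel has odd order does not change the count. -/
theorem card_RO_odd_ker {H : Type u} [Group H] (f : G →* H) (hf : Function.Surjective f)
    (hodd : Odd (Nat.card f.ker)) : Nat.card (RO H) = Nat.card (RO G) := by
  haveI := Fintype.ofFinite f.ker
  rw [card_RO_surjective f hf]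
  exact Nat.card_congr (Equiv.subtypeUnivEquiv fun χ x hx =>
    real_odd_ker f.ker hodd χ.2.1 χ.2.2 x hx)

end Kernel

end Cfsg.Agent.BlockCharsA.RealOdd
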