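import Cfsg.Agent.BlockCharsA.RealOdd.Fibre

/-!
The number of real irreducible characters of odd degree of a solvable group.
-/

set_option autoImplicit false
set_option linter.style.haveILetI false
set_option linter.unusedSectionVars false

namespace Cfsg.Agent.BlockCharsA.RealOdd

open Cfsg.Agent.Characters Cfsg.Agent.CharTheory Cfsg.Agent.BlockCharsA.CoprimeComplement
open scoped ComplexConjugate Pointwise

universe u

variable {G : Type u} [Group G] [Finite G]

theorem exists_normal_step [Group.IsSolvable G] (hne : Nat.card G ≠ 1) :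
    ∃ K : Subgroup G, K.Normal ∧ K ≠ ⊥ ∧ (Odd (Nat.card K) ∨ IsPGroup 2 K) := by
  obtain ⟨q, K, hq, hn, hK, hne'⟩ :=
    GlaubermanSolvable.exists_normal_pgroup (S := G) inferInstance hne
  refine ⟨K, hn, hne', ?_⟩
  rcases hq.eq_two_or_odd' with rfl | ho
  · exact Or.inr hK
  · haveI : Fact q.Prime := ⟨hq⟩
    obtain ⟨k, hk⟩ := IsPGroup.iff_card.mp hK
    exact Or.inl (hk ▸ ho.pow)

theorem normal_le_sylow {p : ℕ} [Fact p.Prime] {V : Subgroup G} [hV : V.Normal]
    (h : IsPGroup p V) (P : Sylow p G) : V ≤ (P : Subgroup G) := by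
  obtain ⟨Q, hQ⟩ := h.exists_le_sylow
  obtain ⟨g, hg⟩ := MulAction.exists_smul_eq G Q P
  intro v hv
  rw [← hg, Sylow.coe_subgroup_smul, Subgroup.mem_smul_pointwise_iff_exists]
  refine ⟨g⁻¹ * v * g, hQ (by simpa using hV.conj_mem v hv g⁻¹), ?_⟩
  show g * (g⁻¹ * v * g) * g⁻¹ = v
  group

theorem card_quot_lt {K : Subgroup G} (h : K ≠ ⊥) : Nat.card (G ⧸ K) < Nat.card G := by
  rw [Subgroup.card_eq_card_quotient_mul_card_subgroup K]
  refine lt_mul_of_one_lt_right Nat.card_pos ?_
  exact (Subgroup.one_lt_card_iff_ne_bot K).mpr h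

theorem odd_index_of_sylow (P : Sylow 2 G) {T : Subgroup G} (h : (P : Subgroup G) ≤ T) :
    Odd T.index := by
  rw [← Nat.not_even_iff_odd, even_iff_two_dvd]
  exact fun h2 => P.not_dvd_index (h2.trans (Subgroup.index_dvd_of_le h))

theorem card_ker_comp_odd {H : Type u} [Group H] (f : G →* H) (hodd : Odd (Nat.card f.ker))
    (N : Subgroup G) : Odd (Nat.card (f.comp N.subtype).ker) := by
  refine hodd.of_dvd_nat ?_
  rw [← Subgroup.card_map_of_injective (f := N.subtype) N.subtype_injective]
  refine Subgroup.card_dvd_of_le fun x hx => ?_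
  obtain ⟨y, hy, rfl⟩ := Subgroup.mem_map.mp hx
  exact hy

theorem range_comp_normalizer {p : ℕ} [Fact p.Prime] {H : Type u} [Group H] (f : G →* H)
    (hf : Function.Surjective f) (P : Sylow p G) :
    (f.comp (Subgroup.normalizer ((P : Subgroup G) : Set G)).subtype).range =
      Subgroup.normalizer (((P : Subgroup G).map f : Subgroup H) : Set H) := by
  rw [MonoidHom.range_comp, Subgroup.range_subtype, map_normalizer f hf P]

/-- The relation of conjugacy in the normalizer, on extendible linear characters. -/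
def conjSetoid (V : Subgroup G) [V.Normal] (P : Subgroup G) :
    Setoid {l : V →* ℂˣ // Ext V P l} where
  r a b := ∃ n ∈ Subgroup.normalizer (P : Set G), Clifford.conjBy V n (lin a.1) = lin b.1
  iseqv := by
    refine ⟨fun a => ⟨1, one_mem _, Clifford.conjBy_one V _⟩, ?_, ?_⟩
    · rintro a b ⟨n, hn, e⟩
      exact ⟨n⁻¹, inv_mem hn, by
        rw [← e, Clifford.conjBy_conjBy, mul_inv_cancel, Clifford.conjBy_one]⟩
    · rintro a b c ⟨n, hn, e⟩ ⟨m, hm, e'⟩
      exact ⟨n * m, mul_mem hn hm, by rw [← Clifford.conjBy_conjBy, e, e']⟩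

/-- The count, for solvable groups of bounded order. -/
theorem count : ∀ (n : ℕ) (G : Type u) [Group G] [Finite G] [Group.IsSolvable G] (P : Sylow 2 G),
    Nat.card G ≤ n → Nat.card (RO G) =
      Nat.card (RO (Subgroup.normalizer ((P : Subgroup G) : Set G))) := by
  intro n
  induction n using Nat.strong_induction_on with
  | _ n ih =>
  intro G _ _ _ P hcard
  classical
  by_cases hne : Nat.card G = 1
  · haveI := (Nat.card_eq_one_iff_unique.mp hne).1
    refine card_RO_congr ((MulEquiv.subgroupCongr ?_).trans Subgroup.topEquiv)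
    exact Subsingleton.elim _ _
  haveI := Fintype.ofFinite G
  obtain ⟨K, hKn, hK1, hK⟩ := exists_normal_step hne
  haveI := hKn
  set N := Subgroup.normalizer ((P : Subgroup G) : Set G) with hN
  rcases hK with hodd | htwo
  · set f := QuotientGroup.mk' K with hfdef
    have hf : Function.Surjective f := QuotientGroup.mk'_surjective K
    have hfodd : Odd (Nat.card f.ker) := by rwa [QuotientGroup.ker_mk']
    rw [← card_RO_odd_ker f hf hfodd]
    haveI := Fintype.ofFinite N
    rw [← card_RO_odd_ker (f.comp N.subtype).rangeRestrict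
      (f.comp N.subtype).rangeRestrict_surjective
      (by rw [MonoidHom.ker_rangeRestrict]; exact card_ker_comp_odd f hfodd N),
      ih _ ((card_quot_lt hK1).trans_le hcard) (G ⧸ K) (P.mapSurjective hf) le_rfl]
    refine card_RO_congr (MulEquiv.subgroupCongr ?_)
    rw [range_comp_normalizer f hf P, Sylow.coe_mapSurjective]
  · set V := K with hVdef
    have hVP : V ≤ (P : Subgroup G) := normal_le_sylow htwo P
    haveI := Fintype.ofFinite V
    have hPN : (P : Subgroup G) ≤ N := Subgroup.le_normalizer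
    have hVN : V ≤ N := hVP.trans hPN
    let ι := Quotient (conjSetoid V (P : Subgroup G))
    haveI : Finite (V →* ℂˣ) := Finite.of_equiv _ (linearEquiv (G := V))
    haveI : Fintype ι := Fintype.ofFinite ι
    let lam : ι → V →* ℂˣ := fun i => i.out.1
    have hext : ∀ i, Ext V (P : Subgroup G) (lam i) := fun i => i.out.2
    have hfix : ∀ i, ∀ x ∈ (P : Subgroup G), Clifford.conjBy V x (lin (lam i)) = lin (lam i) := by
      intro i x hx
      obtain ⟨η, -, h⟩ := hext i
      exact fixed_of_ext hVP h hx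
    have hrep : ∀ l, Ext V (P : Subgroup G) l → ∃ i, ∃ g ∈ N,
        Clifford.conjBy V g (lin (lam i)) = lin l := fun l hl =>
      ⟨Quotient.mk _ ⟨l, hl⟩, Quotient.mk_out (s := conjSetoid V (P : Subgroup G)) ⟨l, hl⟩⟩
    have huniq : ∀ i j g, Clifford.conjBy V g (lin (lam i)) = lin (lam j) → i = j := by
      intro i j g hg
      obtain ⟨m, hm, hm'⟩ := exists_normalizer_conj P V (lin (lam i)) g (hfix i)
        (fun x hx => by rw [hg]; exact hfix j x hx)
      have : (conjSetoid V (P : Subgroup G)).r i.out j.out := ⟨m, hm, hm'.trans hg⟩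
      rw [← Quotient.out_eq i, ← Quotient.out_eq j]
      exact Quotient.sound this
    rw [card_RO_sum V P hVP lam (fun l hl => by
      obtain ⟨i, g, -, h⟩ := hrep l hl; exact ⟨i, g, h⟩) huniq]
    -- inside the normalizer
    haveI := Fintype.ofFinite N
    set V' := V.subgroupOf N with hV'
    haveI := Fintype.ofFinite V'
    let e : V' ≃* V := Subgroup.subgroupOfEquivOfLe hVN
    let P' : Sylow 2 N := P.subtype hPN
    let lam' : ι → V' →* ℂˣ := fun i => (lam i).comp e.toMonoidHom
    have hconj : ∀ (g : N) (i : ι) (v : V'), Clifford.conjBy V' g (lin (lam' i)) v =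
        Clifford.conjBy V (g : G) (lin (lam i)) (e v) := fun g i v => rfl
    have hVP' : V' ≤ (P' : Subgroup N) := fun x hx => hVP hx
    have hsum := card_RO_sum V' P' hVP' lam' (fun l hl => by
      obtain ⟨η, hη2, hη⟩ := hl
      let j : (P : Subgroup G) →* (P' : Subgroup N) :=
        { toFun := fun x => ⟨⟨(x : G), hPN x.2⟩, x.2⟩
          map_one' := rfl
          map_mul' := fun _ _ => rfl }
      obtain ⟨i, g, hg, h⟩ := hrep (l.comp e.symm.toMonoidHom)
        ⟨η.comp j, fun x => hη2 _, fun v hv => hη ⟨⟨(v : G), hVN v.2⟩, v.2⟩ hv⟩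
      refine ⟨i, ⟨g, hg⟩, funext fun v => ?_⟩
      rw [hconj, congrFun h]
      show (l (e.symm (e v)) : ℂ) = (l v : ℂ)
      rw [e.symm_apply_apply])
      (fun i j g h => huniq i j (g : G) (funext fun v => by
        have := congrFun h (e.symm v)
        rw [hconj, e.apply_symm_apply] at this
        rw [this]
        show (lam j (e (e.symm v)) : ℂ) = (lam j v : ℂ)
        rw [e.apply_symm_apply]))
    rw [hsum]
    refine Finset.sum_congr rfl fun i _ => ?_
    -- the fibres
    set T := inertia V (lin (lam i)) with hTdef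
    have hVT : V ≤ T := le_inertia V (char_isClassFunction (isCharacter_linear (lam i)))
    have hPT : (P : Subgroup G) ≤ T := hfix i
    obtain ⟨η, hη2, hη⟩ := hext i
    set P₁ : Sylow 2 T := P.subtype hPT with hP₁
    obtain ⟨μ, hμ2, hμ⟩ := exists_ext_real (V.subgroupOf T) (P₁ : Subgroup T)
      (fun x hx => hVP hx) (odd_index_of_sylow P₁ le_rfl)
      ((lam i).comp (Subgroup.subgroupOfEquivOfLe hVT).toMonoidHom)
      (fun g => funext fun v => congrFun (mem_inertia.mp g.2) (Subgroup.subgroupOfEquivOfLe hVT v))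
      (η.comp { toFun := fun x : (P₁ : Subgroup T) => (⟨((x : T) : G), x.2⟩ : (P : Subgroup G))
                map_one' := rfl
                map_mul' := fun _ _ => rfl })
      (fun x => hη2 _) (fun v => hη ⟨((v : T) : G), v.2⟩ (hVP v.2))
    have hμ' : ∀ v : V, μ ⟨(v : G), hVT v.2⟩ = lam i v := fun v => hμ ⟨⟨(v : G), hVT v.2⟩, v.2⟩
    rw [card_over V (lam i) T hTdef hVT (odd_index_of_sylow P hPT) μ hμ2 hμ']
    set T' := inertia V' (lin (lam' i)) with hT'def
    have hmemT : ∀ t : N, t ∈ T' ↔ (t : G) ∈ T := by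
      intro t
      rw [mem_inertia, mem_inertia]
      refine ⟨fun h => funext fun v => ?_, fun h => funext fun v => congrFun h (e v)⟩
      have := congrFun h (e.symm v)
      rw [hconj, e.apply_symm_apply] at this
      rw [this]
      show (lam i (e (e.symm v)) : ℂ) = (lam i v : ℂ)
      rw [e.apply_symm_apply]
    have hV'T' : V' ≤ T' := fun x hx => (hmemT x).mpr (hVT hx)
    let inT : T' →* T :=
      { toFun := fun t => ⟨((t : N) : G), (hmemT t).mp t.2⟩
        map_one' := rfl
        map_mul' := fun _ _ => rfl }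
    rw [card_over V' (lam' i) T' hT'def hV'T'
      (odd_index_of_sylow P' fun x hx => (hmemT x).mpr (hPT hx)) (μ.comp inT) (fun x => hμ2 _)
      (fun v => hμ' (e v))]
    -- both are quotients
    haveI := Fintype.ofFinite T
    set f := QuotientGroup.mk' (V.subgroupOf T) with hfdef
    have hf : Function.Surjective f := QuotientGroup.mk'_surjective _
    set φ := f.comp inT with hφdef
    have hL : Nat.card {ψ : RO T // ∀ x ∈ V.subgroupOf T, (ψ.1 : T → ℂ) x = (ψ.1 : T → ℂ) 1} =
        Nat.card (RO (T ⧸ V.subgroupOf T)) := by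
      rw [card_RO_surjective f hf, QuotientGroup.ker_mk']
    have hR : Nat.card {ψ : RO T' // ∀ x ∈ V'.subgroupOf T', (ψ.1 : T' → ℂ) x = (ψ.1 : T' → ℂ) 1} =
        Nat.card (RO φ.range) := by
      rw [card_RO_surjective φ.rangeRestrict φ.rangeRestrict_surjective, MonoidHom.ker_rangeRestrict]
      refine Nat.card_congr (Equiv.subtypeEquivRight fun ψ => forall_congr' fun x => ?_)
      refine imp_congr_left ?_
      rw [hφdef, MonoidHom.mem_ker, MonoidHom.comp_apply, hfdef, QuotientGroup.mk'_apply,
        QuotientGroup.eq_one_iff]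
      rfl
    have hVT1 : V.subgroupOf T ≠ ⊥ := by
      rw [Ne, Subgroup.subgroupOf_eq_bot, disjoint_iff, inf_eq_left.mpr hVT]
      exact hK1
    have hlt : Nat.card (T ⧸ V.subgroupOf T) < n :=
      ((card_quot_lt hVT1).trans_le (Subgroup.card_le_card_group T)).trans_le hcard
    rw [hL, hR, ih _ hlt (T ⧸ V.subgroupOf T) (P₁.mapSurjective hf) le_rfl]
    refine card_RO_congr (MulEquiv.subgroupCongr ?_)
    rw [hφdef, MonoidHom.range_comp, Sylow.coe_mapSurjective, ← map_normalizer f hf P₁]
    congr 1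
    ext t
    rw [hP₁, Sylow.coe_subtype, ← Subgroup.subgroupOf_normalizer_eq hPT, Subgroup.mem_subgroupOf,
      MonoidHom.mem_range]
    exact ⟨fun ⟨s, hs⟩ => hs ▸ (s : N).2, fun h => ⟨⟨⟨(t : G), h⟩, (hmemT _).mpr t.2⟩, rfl⟩⟩

end Cfsg.Agent.BlockCharsA.RealOdd
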