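import Cfsg.Agent.BlockCharsA.RealOdd.Count
import Cfsg.Agent.GStructB.FixTwo
import Cfsg.Agent.Lib.CharP.Basic

/-!
When all irreducible characters of odd degree of a solvable group are real.
-/

set_option autoImplicit false
set_option linter.style.haveILetI false
set_option linter.unusedSectionVars false

namespace Cfsg.Agent.BlockCharsA.RealOdd

open Cfsg.Agent.Characters Cfsg.Agent.CharTheory Cfsg.Agent.BlockCharsA.CoprimeComplement
open Cfsg.Agent.BlockCharsA.Glauberman
open scoped ComplexConjugate Pointwise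

universe u

/-- All irreducible characters of odd degree are real. -/
def AllReal (G : Type u) [Group G] : Prop :=
  ∀ χ : Cfsg.IrrCharacter G, Odd (Cfsg.charDegree (χ : G → ℂ)) → IsReal (χ : G → ℂ)

/-- All linear characters square to one. -/
def LinSq (P : Type u) [Group P] : Prop := ∀ η : P →* ℂˣ, ∀ x, η x ^ 2 = 1

variable {G : Type u} [Group G] [Finite G] {H : Type u} [Group H]

theorem allReal_surjective (f : G →* H) (hf : Function.Surjective f) (h : AllReal G) :
    AllReal H := by
  intro χ hodd y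
  obtain ⟨x, rfl⟩ := hf y
  exact h ⟨_, isIrrCharacter_comp_surjective f hf χ.2⟩
    (by rw [charDegree_congr (ψ := (χ : H → ℂ)) (by simp)]; exact hodd) x

theorem linSq_surjective {A B : Type u} [Group A] [Group B] (j : A →* B)
    (hj : Function.Surjective j) (h : LinSq A) : LinSq B := by
  intro η y
  obtain ⟨x, rfl⟩ := hj y
  exact h (η.comp j) x

/-- A linear character trivial on the kernel squares to one when those of the image do. -/
theorem sq_of_trivial {A B : Type u} [Group A] [Group B] (j : A →* B) (hj : Function.Surjective j)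
    (h : LinSq B) (η : A →* ℂˣ) (hη : j.ker ≤ η.ker) (x : A) : η x ^ 2 = 1 := by
  have := h (j.liftOfSurjective hj ⟨η, hη⟩) (j x)
  rwa [show (j.liftOfSurjective hj ⟨η, hη⟩) (j x) = η x from
    j.liftOfRightInverse_comp_apply _ (Function.rightInverse_surjInv hj) ⟨η, hη⟩ x] at this

theorem self_normalizing_map {p : ℕ} [Fact p.Prime] (f : G →* H) (hf : Function.Surjective f)
    (P : Sylow p G)
    (h : Subgroup.normalizer ((P : Subgroup G) : Set G) = (P : Subgroup G)) :
    Subgroup.normalizer (((P : Subgroup G).map f : Subgroup H) : Set H) =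
      (P : Subgroup G).map f := by
  rw [← map_normalizer f hf P, h]

theorem normalizer_le_sup {p : ℕ} (f : G →* H) (P : Sylow p G)
    (h : Subgroup.normalizer (((P : Subgroup G).map f : Subgroup H) : Set H) =
      (P : Subgroup G).map f) :
    Subgroup.normalizer ((P : Subgroup G) : Set G) ≤ (P : Subgroup G) ⊔ f.ker := by
  intro x hx
  rw [← Subgroup.comap_map_eq, Subgroup.mem_comap, ← h]
  exact Subgroup.le_normalizer_map f (Subgroup.mem_map_of_mem f hx)

theorem inf_eq_bot_of_odd {P K : Subgroup G} (hP : IsPGroup 2 P) (hodd : Odd (Nat.card K)) :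
    P ⊓ K = ⊥ := by
  obtain ⟨k, hk⟩ := IsPGroup.iff_card.mp hP
  rw [← Subgroup.card_eq_one]
  exact Nat.eq_one_of_dvd_coprimes (a := Nat.card P) (b := Nat.card K)
    (hk ▸ (Nat.coprime_two_left.mpr hodd).pow_left k) (Subgroup.card_dvd_of_le inf_le_left)
    (Subgroup.card_dvd_of_le inf_le_right)

/-- Conjugates of a character fixed by a `2`-subgroup. -/
theorem exists_fixed_conj [Fintype G] (K : Subgroup G) [K.Normal] [Fintype K] {P : Subgroup G}
    (hP : IsPGroup 2 P) {χ : Cfsg.IrrCharacter G} (hodd : Odd (Cfsg.charDegree (χ : G → ℂ))) :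
    ∃ θ : Cfsg.IrrCharacter K, Cfsg.classInner (fun m : K => (χ : G → ℂ) m) (θ : K → ℂ) ≠ 0 ∧
      ∀ x ∈ P, Clifford.conjBy K x (θ : K → ℂ) = (θ : K → ℂ) := by
  classical
  obtain ⟨θ, hθ⟩ := NormalSupport.exists_under (N := K) χ
  obtain ⟨e, he⟩ := classInner_char_nat
    (isCharacter_restrict (H := K) (irr_isCharacter χ)) (irr_isCharacter θ)
  set T := inertia K (θ : K → ℂ)
  have h := Clifford.card_mul_degree K χ.2 θ.2 hθ T (fun _ => Iff.rfl)
  rw [he, ← Blocks.charDegree_cast, ← Blocks.charDegree_cast] at h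
  have h' : Nat.card T * Cfsg.charDegree (χ : G → ℂ) =
      e * (Nat.card G * Cfsg.charDegree (θ : K → ℂ)) := by exact_mod_cast h
  rw [← T.card_mul_index] at h'
  have hc : Cfsg.charDegree (χ : G → ℂ) = e * T.index * Cfsg.charDegree (θ : K → ℂ) := by
    refine Nat.eq_of_mul_eq_mul_left (Nat.card_pos (α := T)) ?_
    rw [h']; ring
  rw [hc] at hodd
  have hidx : ¬ 2 ∣ Nat.card (G ⧸ T) := by
    rw [← Subgroup.index_eq_card, ← even_iff_two_dvd, Nat.not_even_iff_odd]
    exact (Nat.odd_mul.mp (Nat.odd_mul.mp hodd).1).2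
  obtain ⟨q, hq⟩ := hP.nonempty_fixed_point_of_prime_not_dvd_card (G ⧸ T) hidx
  obtain ⟨g, rfl⟩ := QuotientGroup.mk_surjective q
  refine ⟨⟨Clifford.conjBy K g⁻¹ (θ : K → ℂ), Clifford.isIrrCharacter_conjBy K _ θ.2⟩, ?_,
    fun x hx => ?_⟩
  · show Cfsg.classInner (fun m : K => (χ : G → ℂ) m) (Clifford.conjBy K g⁻¹ (θ : K → ℂ)) ≠ 0
    rw [Clifford.classInner_restrict_conjBy K (char_isClassFunction (irr_isCharacter χ))]
    exact hθ
  · show Clifford.conjBy K x (Clifford.conjBy K g⁻¹ (θ : K → ℂ)) = Clifford.conjBy K g⁻¹ _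
    have hmem : g⁻¹ * x * g ∈ T := by
      have h2 : ((x * g : G) : G ⧸ T) = (g : G ⧸ T) := hq ⟨x, hx⟩
      have h3 := T.inv_mem (QuotientGroup.eq.mp h2)
      simpa [mul_assoc] using h3
    rw [Clifford.conjBy_conjBy, show g⁻¹ * x = g⁻¹ * x * g * g⁻¹ by group,
      ← Clifford.conjBy_conjBy, mem_inertia.mp hmem]

/-- A self-normalizing Sylow `2`-subgroup fixes no nontrivial character of a normal subgroup of odd
order, and conversely. -/
theorem nonempty_invariant_iff (K : Subgroup G) [K.Normal] [Fintype K] (P : Subgroup G)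
    (hP : IsPGroup 2 P) (hodd : Odd (Nat.card K)) :
    K ⊓ Subgroup.centralizer (P : Set G) = ⊥ ↔
      ∀ θ : Cfsg.IrrCharacter K, (∀ x ∈ P, Clifford.conjBy K x (θ : K → ℂ) = (θ : K → ℂ)) →
        (θ : K → ℂ) = fun _ => 1 := by
  classical
  letI := conjAct K P
  have hcop : (Nat.card K).Coprime (Nat.card P) := by
    obtain ⟨k, hk⟩ := IsPGroup.iff_card.mp hP
    rw [hk]
    exact (Nat.coprime_two_right.mpr hodd).pow_right k
  haveI : Fact (Nat.Prime 2) := ⟨Nat.prime_two⟩
  haveI := hP.isNilpotent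
  have hsolv : Group.IsSolvable P := inferInstance
  have hcard : Nat.card {θ : Cfsg.IrrCharacter K // IsInv P θ} =
      Nat.card (ConjClasses ↥(K ⊓ Subgroup.centralizer (P : Set G))) :=
    (GlaubermanSolvable.card_invariant (Nat.card P) K P le_rfl hcop hsolv).trans
      (card_invClass K P hcop hsolv)
  have hiff : ∀ θ : Cfsg.IrrCharacter K,
      IsInv P θ ↔ ∀ x ∈ P, Clifford.conjBy K x (θ : K → ℂ) = (θ : K → ℂ) := fun θ =>
    ⟨fun h x hx => funext fun n => h ⟨x, hx⟩ n, fun h s n => congrFun (h s s.2) n⟩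
  let one : {θ : Cfsg.IrrCharacter K // IsInv P θ} :=
    ⟨⟨fun _ => 1, isIrrCharacter_linear (1 : K →* ℂˣ)⟩, fun _ _ => rfl⟩
  constructor
  · intro hbot θ hθ
    have h1 : Nat.card {θ : Cfsg.IrrCharacter K // IsInv P θ} = 1 := by
      rw [hcard, hbot]
      haveI : Subsingleton (ConjClasses (⊥ : Subgroup G)) :=
        ConjClasses.mk_surjective.subsingleton
      haveI : Nonempty (ConjClasses (⊥ : Subgroup G)) := ⟨ConjClasses.mk 1⟩
      exact Nat.card_of_subsingleton (ConjClasses.mk 1)
    haveI := (Nat.card_eq_one_iff_unique.mp h1).1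
    exact congrArg (fun z => ((z.1 : Cfsg.IrrCharacter K) : K → ℂ))
      (Subsingleton.elim (⟨θ, (hiff θ).mpr hθ⟩ : {θ : Cfsg.IrrCharacter K // IsInv P θ}) one)
  · intro h
    haveI : Subsingleton {θ : Cfsg.IrrCharacter K // IsInv P θ} := ⟨fun a b =>
      Subtype.ext (Subtype.ext ((h a.1 ((hiff _).mp a.2)).trans (h b.1 ((hiff _).mp b.2)).symm))⟩
    haveI : Nonempty {θ : Cfsg.IrrCharacter K // IsInv P θ} := ⟨one⟩
    have h1 : Nat.card (ConjClasses ↥(K ⊓ Subgroup.centralizer (P : Set G))) = 1 :=
      hcard ▸ Nat.card_of_subsingleton one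
    haveI := (Nat.card_eq_one_iff_unique.mp h1).1
    rw [eq_bot_iff]
    intro c hc
    obtain ⟨d, hd⟩ := isConj_iff.mp (ConjClasses.mk_eq_mk_iff_isConj.mp
      (Subsingleton.elim (ConjClasses.mk (⟨c, hc⟩ : ↥(K ⊓ Subgroup.centralizer (P : Set G))))
        (ConjClasses.mk 1)))
    rw [Subgroup.mem_bot]
    exact congrArg Subtype.val (mul_left_cancel (mul_right_cancel (hd.trans
      (show (1 : ↥(K ⊓ Subgroup.centralizer (P : Set G))) = d * 1 * d⁻¹ by simp))))

variable [Group.IsSolvable G]

/-- The forward step over a normal subgroup of odd order. -/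
theorem centralizer_trivial_of_allReal [Fintype G] (K : Subgroup G) [K.Normal] [Fintype K]
    (P : Sylow 2 G) (hodd : Odd (Nat.card K)) (h : AllReal G) :
    K ⊓ Subgroup.centralizer ((P : Subgroup G) : Set G) = ⊥ := by
  classical
  refine (nonempty_invariant_iff K (P : Subgroup G) P.isPGroup' hodd).mpr fun θ hθ => ?_
  set S := K ⊔ (P : Subgroup G) with hS
  haveI := Fintype.ofFinite S
  haveI := Fintype.ofFinite (K.subgroupOf S)
  have hKS : K ≤ S := le_sup_left
  let e := Subgroup.subgroupOfEquivOfLe hKS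
  let θS : Cfsg.IrrCharacter (K.subgroupOf S) :=
    ⟨(θ : K → ℂ) ∘ e, Basics.isIrrCharacter_comp_equiv e θ.2⟩
  have hidx : (Nat.card (K.subgroupOf S)).Coprime (K.subgroupOf S).index := by
    rw [Nat.card_congr e.toEquiv]
    obtain ⟨k, hk⟩ := IsPGroup.iff_card.mp P.isPGroup'
    refine Nat.Coprime.coprime_dvd_right ?_ ((Nat.coprime_two_right.mpr hodd).pow_right k)
    show K.relIndex S ∣ _
    rw [hS, sup_comm, Subgroup.relIndex_sup_right, ← hk]
    exact Subgroup.index_dvd_card _
  have hinv : ∀ g : S, Clifford.conjBy (K.subgroupOf S) g (θS : K.subgroupOf S → ℂ) = θS := by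
    intro g
    have hle : S ≤ inertia K (θ : K → ℂ) :=
      sup_le (le_inertia K (char_isClassFunction (irr_isCharacter θ))) hθ
    exact funext fun n => congrFun (mem_inertia.mp (hle g.2)) (e n)
  obtain ⟨ξ, hξ⟩ := CoprimeComplement.exists_ext (K.subgroupOf S) hidx θS hinv
  have hξ1 : (ξ : S → ℂ) 1 = (θ : K → ℂ) 1 :=
    (hξ 1).trans (congrArg (θ : K → ℂ) (map_one e))
  have hdeg : Odd (S.index * Cfsg.charDegree (ξ : S → ℂ)) := by
    refine (odd_index_of_sylow P le_sup_right).mul ?_
    rw [charDegree_congr hξ1]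
    exact hodd.of_dvd_nat (Blocks.char_degree_dvd_card θ)
  obtain ⟨χ, hχ, hχo, -⟩ := exists_odd_constituent
    (isCharacter_indFun S (irr_isCharacter ξ)) (by
      rw [indFun_one, ← Blocks.charDegree_cast ξ, Nat.cast_mul]) hdeg
  have h1 : Cfsg.classInner (fun s : S => (χ : G → ℂ) s) (ξ : S → ℂ) ≠ 0 := by
    rw [frobenius_reciprocity S _ (char_isClassFunction (irr_isCharacter χ)),
      classInner_conj_symm, Ne, map_eq_zero] at hχ
    exact hχ
  have h2 : Cfsg.classInner (fun v : K => (χ : G → ℂ) v) (θ : K → ℂ) ≠ 0 := by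
    refine inner_trans hKS (irr_isCharacter χ) ξ.2 (irr_isCharacter θ) h1 ?_
    rw [show (fun v : K => (ξ : S → ℂ) ⟨(v : G), hKS v.2⟩) = (θ : K → ℂ) from
      funext fun v => hξ ⟨⟨(v : G), hKS v.2⟩, v.2⟩, classInner_isIrr_self θ.2]
    exact one_ne_zero
  have hker := real_odd_ker K hodd (h χ hχo) hχo
  rw [show (fun v : K => (χ : G → ℂ) v) = (χ : G → ℂ) 1 • (fun _ => (1 : ℂ)) from
    funext fun v => by simp [hker _ v.2], classInner_smul_left] at h2
  by_contra hne
  have h1irr : Cfsg.IsIrrCharacter K (fun _ => (1 : ℂ)) := isIrrCharacter_linear (1 : K →* ℂˣ)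
  exact h2 (by rw [classInner_isIrr_ne h1irr θ.2 (fun he => hne he.symm), mul_zero])

/-- The criterion, for solvable groups of bounded order. -/
theorem criterion : ∀ (n : ℕ) (G : Type u) [Group G] [Finite G] [Group.IsSolvable G] (P : Sylow 2 G),
    Nat.card G ≤ n → (AllReal G ↔
      (Subgroup.normalizer ((P : Subgroup G) : Set G) = (P : Subgroup G) ∧
        LinSq (P : Subgroup G))) := by
  intro n
  induction n using Nat.strong_induction_on with
  | _ n ih =>
  intro G _ _ _ P hcard
  classical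
  haveI := Fintype.ofFinite G
  by_cases hne : Nat.card G = 1
  · haveI := (Nat.card_eq_one_iff_unique.mp hne).1
    refine iff_of_true (fun χ _ x => ?_) ⟨Subsingleton.elim _ _, fun η x => ?_⟩
    · rw [Subsingleton.elim x 1, ← Blocks.charDegree_cast χ, Complex.natCast_im]
    · rw [Subsingleton.elim x 1, map_one, one_pow]
  obtain ⟨K, hKn, hK1, hK⟩ := exists_normal_step hne
  haveI := hKn
  haveI := Fintype.ofFinite K
  set f := QuotientGroup.mk' K with hfdef
  have hf : Function.Surjective f := QuotientGroup.mk'_surjective K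
  have hker : f.ker = K := QuotientGroup.ker_mk' K
  have hih := ih _ ((card_quot_lt hK1).trans_le hcard) (G ⧸ K) (P.mapSurjective hf) le_rfl
  rw [Sylow.coe_mapSurjective] at hih
  have hjs := f.subgroupMap_surjective (P : Subgroup G)
  rcases hK with hodd | htwo
  · have hdisj := inf_eq_bot_of_odd P.isPGroup' hodd
    constructor
    · intro h
      obtain ⟨hself, hlin⟩ := hih.mp (allReal_surjective f hf h)
      have hC := centralizer_trivial_of_allReal K P hodd h
      refine ⟨le_antisymm (fun x hx => ?_) Subgroup.le_normalizer, fun η y => ?_⟩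
      · have hx' := normalizer_le_sup f P hself hx
        rw [hker, Subgroup.mem_sup_of_normal_right] at hx'
        obtain ⟨a, ha, b, hb, rfl⟩ := hx'
        have hbN : b ∈ Subgroup.normalizer ((P : Subgroup G) : Set G) := by
          simpa using Subgroup.mul_mem _ (inv_mem (Subgroup.le_normalizer ha)) hx
        have hb1 : b ∈ K ⊓ Subgroup.centralizer ((P : Subgroup G) : Set G) := by
          refine ⟨hb, Subgroup.mem_centralizer_iff.mpr fun y hy => ?_⟩
          have hc : b * y * b⁻¹ * y⁻¹ ∈ (P : Subgroup G) ⊓ K :=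
            ⟨Subgroup.mul_mem _ ((Subgroup.mem_normalizer_iff.mp hbN y).mp hy) (inv_mem hy), by
              simpa [mul_assoc] using K.mul_mem hb (hKn.conj_mem _ (inv_mem hb) y)⟩
          rw [hdisj, Subgroup.mem_bot, mul_inv_eq_one, mul_inv_eq_iff_eq_mul] at hc
          exact hc.symm
        rw [hC, Subgroup.mem_bot] at hb1
        rw [hb1, mul_one]
        exact ha
      · refine sq_of_trivial (f.subgroupMap P) hjs hlin η (fun z hz => ?_) y
        have hz' : (z : G) ∈ (P : Subgroup G) ⊓ K :=
          ⟨z.2, (QuotientGroup.eq_one_iff _).mp (congrArg Subtype.val hz)⟩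
        rw [hdisj, Subgroup.mem_bot] at hz'
        rw [MonoidHom.mem_ker, show z = 1 from Subtype.ext hz', map_one]
    · rintro ⟨hself, hlin⟩ χ hχ
      have hquot := hih.mpr ⟨self_normalizing_map f hf P hself,
        linSq_surjective (f.subgroupMap P) hjs hlin⟩
      have hC : K ⊓ Subgroup.centralizer ((P : Subgroup G) : Set G) = ⊥ := by
        rw [eq_bot_iff, ← hdisj]
        refine fun c hc => ⟨?_, hc.1⟩
        rw [← hself]
        exact Subgroup.centralizer_le_normalizer _ hc.2
      obtain ⟨θ, hθ, hfixθ⟩ := exists_fixed_conj K P.isPGroup' hχ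
      rw [(nonempty_invariant_iff K (P : Subgroup G) P.isPGroup' hodd).mp hC θ hfixθ] at hθ
      obtain ⟨ψ, -, hψ, hirr⟩ := exists_deflate_quotient K (irr_isCharacter χ)
        (ker_of_trivial K hθ)
      intro x
      rw [← hψ x]
      exact hquot ⟨ψ, hirr χ.2⟩ (by
        rw [charDegree_congr (ψ := (χ : G → ℂ)) (hψ 1)]; exact hχ) _
  · have hVP : K ≤ (P : Subgroup G) := normal_le_sylow htwo P
    constructor
    · intro h
      obtain ⟨hself, hlin⟩ := hih.mp (allReal_surjective f hf h)
      have hN : Subgroup.normalizer ((P : Subgroup G) : Set G) = (P : Subgroup G) :=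
        le_antisymm ((normalizer_le_sup f P hself).trans (by rw [hker]; exact sup_le le_rfl hVP))
          Subgroup.le_normalizer
      refine ⟨hN, fun η y => ?_⟩
      haveI := Fintype.ofFinite (P : Subgroup G)
      set lam : K →* ℂˣ := η.comp (Subgroup.inclusion hVP) with hlam
      have hPo : Odd (P : Subgroup G).index := odd_index_of_sylow P le_rfl
      obtain ⟨χ, hχ, hχo, -⟩ := exists_odd_constituent
        (isCharacter_indFun (P : Subgroup G) (isCharacter_linear η)) (d := (P : Subgroup G).index)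
        (by rw [indFun_one]; simp) hPo
      have h1 : Cfsg.classInner (fun s : (P : Subgroup G) => (χ : G → ℂ) s) (lin η) ≠ 0 := by
        rw [frobenius_reciprocity _ _ (char_isClassFunction (irr_isCharacter χ)),
          classInner_conj_symm, Ne, map_eq_zero] at hχ
        exact hχ
      obtain ⟨η', hη', hη'2⟩ := exists_linear_constituent (P : Subgroup G) P.isPGroup' hχo
      have hc : ∀ ζ : (P : Subgroup G) →* ℂˣ,
          Cfsg.classInner (fun s : (P : Subgroup G) => (χ : G → ℂ) s) (lin ζ) ≠ 0 →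
          Cfsg.classInner (fun v : K => (χ : G → ℂ) v) (lin (ζ.comp (Subgroup.inclusion hVP))) ≠ 0 := by
        intro ζ hζ
        refine inner_trans hVP (irr_isCharacter χ) (lin_irr ζ)
          (isCharacter_of_isIrr (lin_irr _)) hζ ?_
        rw [show (fun v : K => lin ζ ⟨(v : G), hVP v.2⟩) =
          lin (ζ.comp (Subgroup.inclusion hVP)) from rfl, classInner_isIrr_self (lin_irr _)]
        exact one_ne_zero
      obtain ⟨g, hg⟩ := Clifford.exists_conjBy_eq K χ.2 (lin_irr _) (lin_irr _) (hc η h1)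
        (hc η' hη')
      have hfix : ∀ (ζ : (P : Subgroup G) →* ℂˣ), ∀ x ∈ (P : Subgroup G),
          Clifford.conjBy K x (lin (ζ.comp (Subgroup.inclusion hVP))) =
            lin (ζ.comp (Subgroup.inclusion hVP)) := fun ζ x hx =>
        fixed_of_ext hVP (η := ζ) (fun v hv => rfl) hx
      obtain ⟨m, hm, hm'⟩ := exists_normalizer_conj P K
        (lin (η.comp (Subgroup.inclusion hVP))) g (hfix η) (fun x hx => by rw [hg]; exact hfix η' x hx)
      rw [hN] at hm
      have heq : η.comp (Subgroup.inclusion hVP) = η'.comp (Subgroup.inclusion hVP) :=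
        lin_injective ((hfix η m hm).symm.trans (hm'.trans hg))
      have hsq := sq_of_trivial (f.subgroupMap P) hjs hlin (η / η') (fun z hz => ?_) y
      · rw [MonoidHom.div_apply, div_pow, hη'2 (h χ hχo) y, div_one] at hsq
        exact hsq
      · have hzK : (z : G) ∈ K := (QuotientGroup.eq_one_iff _).mp (congrArg Subtype.val hz)
        rw [MonoidHom.mem_ker, MonoidHom.div_apply, div_eq_one]
        exact DFunLike.congr_fun heq ⟨(z : G), hzK⟩
    · rintro ⟨hself, hlin⟩ χ hχ
      haveI := Fintype.ofFinite (P : Subgroup G)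
      obtain ⟨η, hη, -⟩ := exists_linear_constituent (P : Subgroup G) P.isPGroup' hχ
      set lam : K →* ℂˣ := η.comp (Subgroup.inclusion hVP) with hlam
      have hcl : Cfsg.classInner (fun v : K => (χ : G → ℂ) v) (lin lam) ≠ 0 := by
        refine inner_trans hVP (irr_isCharacter χ) (lin_irr η)
          (isCharacter_of_isIrr (lin_irr lam)) hη ?_
        rw [show (fun v : K => lin η ⟨(v : G), hVP v.2⟩) = lin lam from rfl,
          classInner_isIrr_self (lin_irr lam)]
        exact one_ne_zero
      set T := inertia K (lin lam) with hTdef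
      haveI := Fintype.ofFinite T
      have hVT : K ≤ T := le_inertia K (char_isClassFunction (isCharacter_linear lam))
      have hPT : (P : Subgroup G) ≤ T := fun x hx => fixed_of_ext hVP (η := η) (fun v hv => rfl) hx
      set P₁ : Sylow 2 T := P.subtype hPT with hP₁
      obtain ⟨ψ, hind, hψ⟩ := exists_corr K lam T hTdef hVT hcl
      obtain ⟨μ, hμ2, hμ⟩ := exists_ext_real (K.subgroupOf T) (P₁ : Subgroup T)
        (fun x hx => hVP hx) (odd_index_of_sylow P₁ le_rfl)
        (lam.comp (Subgroup.subgroupOfEquivOfLe hVT).toMonoidHom)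
        (fun g => funext fun v => congrFun (mem_inertia.mp g.2) (Subgroup.subgroupOfEquivOfLe hVT v))
        (η.comp { toFun := fun x : (P₁ : Subgroup T) => (⟨((x : T) : G), x.2⟩ : (P : Subgroup G))
                  map_one' := rfl
                  map_mul' := fun _ _ => rfl })
        (fun x => hlin η _) (fun v => rfl)
      have hμr := sq_eq_one_real μ hμ2
      have hl1 : lin μ 1 = 1 := by simp [lin]
      let ψ₀ : Cfsg.IrrCharacter T :=
        ⟨(ψ : T → ℂ) * lin μ, Basics.isIrr_mul_linear ψ.2 (isCharacter_linear μ) hl1⟩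
      have hψ₀K : ∀ x ∈ K.subgroupOf T, (ψ₀ : T → ℂ) x = (ψ₀ : T → ℂ) 1 := by
        intro x hx
        show (ψ : T → ℂ) x * lin μ x = (ψ : T → ℂ) 1 * lin μ 1
        have hm : lin μ x = lin lam ⟨(x : G), hx⟩ := congrArg Units.val (hμ ⟨x, hx⟩)
        have hp := hψ ⟨(x : G), hx⟩
        rw [show (⟨((⟨(x : G), hx⟩ : K) : G), hVT hx⟩ : T) = x from rfl] at hp
        rw [hp, ← hm, mul_assoc, hl1, mul_one, lin, ← Units.val_mul, ← pow_two, hμ2, Units.val_one,
          mul_one]
      set fT := QuotientGroup.mk' (K.subgroupOf T) with hfT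
      have hfTs : Function.Surjective fT := QuotientGroup.mk'_surjective _
      have hVT1 : K.subgroupOf T ≠ ⊥ := by
        rw [Ne, Subgroup.subgroupOf_eq_bot, disjoint_iff, inf_eq_left.mpr hVT]
        exact hK1
      have hlt : Nat.card (T ⧸ K.subgroupOf T) < n :=
        ((card_quot_lt hVT1).trans_le (Subgroup.card_le_card_group T)).trans_le hcard
      have hself₁ : Subgroup.normalizer ((P₁ : Subgroup T) : Set T) = (P₁ : Subgroup T) := by
        rw [hP₁, Sylow.coe_subtype, ← Subgroup.subgroupOf_normalizer_eq hPT, hself]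
      have hlin₁ : LinSq (P₁ : Subgroup T) :=
        linSq_surjective (Subgroup.subgroupOfEquivOfLe hPT).symm.toMonoidHom
          (Subgroup.subgroupOfEquivOfLe hPT).symm.surjective hlin
      have hqT : AllReal (T ⧸ K.subgroupOf T) :=
        (ih _ hlt (T ⧸ K.subgroupOf T) (P₁.mapSurjective hfTs) le_rfl).mpr
          ⟨by rw [Sylow.coe_mapSurjective]; exact self_normalizing_map fT hfTs P₁ hself₁,
            linSq_surjective (fT.subgroupMap P₁) (fT.subgroupMap_surjective _) hlin₁⟩
      obtain ⟨φ, -, hφ, hirr⟩ := exists_deflate_quotient (K.subgroupOf T) (irr_isCharacter ψ₀) hψ₀K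
      have hodd' : Odd (Cfsg.charDegree (ψ : T → ℂ)) := by
        rw [← hind, charDegree_ind] at hχ
        exact (Nat.odd_mul.mp hχ).2
      have hψ₀r : IsReal (ψ₀ : T → ℂ) := fun x => by
        rw [← hφ x]
        exact hqT ⟨φ, hirr ψ₀.2⟩ (by
          rw [charDegree_congr (ψ := (ψ : T → ℂ))
            ((hφ 1).trans (by show (ψ : T → ℂ) 1 * lin μ 1 = _; rw [hl1, mul_one]))]
          exact hodd') _
      rw [← hind]
      refine isReal_indFun fun x => ?_
      have hx : (ψ : T → ℂ) x = (ψ₀ : T → ℂ) x * lin μ x := by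
        show _ = (ψ : T → ℂ) x * lin μ x * lin μ x
        rw [mul_assoc, lin, ← Units.val_mul, ← pow_two, hμ2, Units.val_one, mul_one]
      rw [hx, Complex.mul_im, hψ₀r x, hμr x]
      ring

/-- In a `2`-group the linear characters square to one exactly when the commutator subgroup is the
Frattini subgroup. -/
theorem linSq_iff {P : Type u} [Group P] [Finite P] (hP : IsPGroup 2 P) :
    LinSq P ↔ commutator P = frattini P := by
  haveI : Fact (Nat.Prime 2) := ⟨Nat.prime_two⟩
  haveI := hP.isNilpotent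
  constructor
  · intro h
    refine le_antisymm (Cfsg.Agent.Coprime.commutator_le_frattini P) ?_
    haveI : NeZero (Monoid.exponent (Abelianization P)) := ⟨Monoid.exponent_ne_zero_of_finite⟩
    haveI : NeZero (Monoid.exponent (Abelianization P) : ℂ) :=
      ⟨Nat.cast_ne_zero.2 Monoid.exponent_ne_zero_of_finite⟩
    have hsq : ∀ a : P ⧸ commutator P, a ^ 2 = 1 := by
      intro a
      by_contra ha
      obtain ⟨φ, hφ⟩ := CommGroup.exists_apply_ne_one_of_hasEnoughRootsOfUnity (Abelianization P) ℂ ha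
      obtain ⟨x, rfl⟩ := QuotientGroup.mk_surjective a
      exact hφ ((map_pow φ _ 2).trans (h (φ.comp Abelianization.of) x))
    have h1 := Cfsg.Agent.CharP.frattini_le_ker (p := 2) (Abelianization.of (G := P))
      (fun a b => Commute.all _ _) (fun a => hsq _)
    rwa [Abelianization.ker_of] at h1
  · intro h η x
    have hx : x ^ 2 ∈ commutator P := h ▸ Cfsg.Agent.GStructB.FixTwo.pow_mem_frattini hP x
    rw [← map_pow]
    exact Abelianization.commutator_subset_ker η hx

end Cfsg.Agent.BlockCharsA.RealOdd
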