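import Cfsg.Agent.BlockCharsA.RealOdd.Basic

/-!
Real odd-degree characters over a linear character of a normal `2`-subgroup; the normalizer of a
Sylow subgroup in a quotient.
-/

set_option autoImplicit false
set_option linter.style.haveILetI false
set_option linter.unusedSectionVars false

namespace Cfsg.Agent.BlockCharsA.RealOdd

open Cfsg.Agent.Characters Cfsg.Agent.CharTheory Cfsg.Agent.BlockCharsA.CoprimeComplement
open scoped ComplexConjugate Pointwise

universe u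

variable {G : Type u} [Group G]

/-- The image of the normalizer of a Sylow subgroup. -/
theorem mem_map_normalizer [Finite G] {p : ℕ} [Fact p.Prime] {H : Type u} [Group H] (f : G →* H)
    (hf : Function.Surjective f) (P : Sylow p G) {y : H}
    (hy : y ∈ Subgroup.normalizer (((P : Subgroup G).map f : Subgroup H) : Set H)) :
    ∃ n ∈ Subgroup.normalizer ((P : Subgroup G) : Set G), f n = y := by
  obtain ⟨x, rfl⟩ := hf y
  set R : Subgroup G := ((P : Subgroup G).map f).comap f with hR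
  have h1 : (P : Subgroup G) ≤ R := Subgroup.le_comap_map f _
  have h2 : ((x • P : Sylow p G) : Subgroup G) ≤ R := by
    intro a ha
    rw [Sylow.coe_subgroup_smul, Subgroup.mem_smul_pointwise_iff_exists] at ha
    obtain ⟨q, hq, rfl⟩ := ha
    show f (x * q * x⁻¹) ∈ (P : Subgroup G).map f
    rw [map_mul, map_mul, map_inv]
    exact (Subgroup.mem_normalizer_iff.mp hy _).mp (Subgroup.mem_map_of_mem f hq)
  obtain ⟨r, hr⟩ := MulAction.exists_smul_eq R ((x • P).subtype h2) (P.subtype h1)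
  rw [Sylow.smul_subtype] at hr
  have hn : (r : G) * x ∈ Subgroup.normalizer ((P : Subgroup G) : Set G) := by
    have h := Sylow.subtype_injective hr
    rw [Subgroup.smul_def, smul_smul] at h
    exact Sylow.smul_eq_iff_mem_normalizer.mp h
  obtain ⟨q, hq, hqr⟩ := Subgroup.mem_map.mp (r.2 : f (r : G) ∈ (P : Subgroup G).map f)
  refine ⟨q⁻¹ * ((r : G) * x), Subgroup.mul_mem _ (Subgroup.inv_mem _ (Subgroup.le_normalizer hq))
    hn, ?_⟩
  rw [map_mul, map_mul, map_inv, hqr, inv_mul_cancel_left]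

theorem map_normalizer [Finite G] {p : ℕ} [Fact p.Prime] {H : Type u} [Group H] (f : G →* H)
    (hf : Function.Surjective f) (P : Sylow p G) :
    (Subgroup.normalizer ((P : Subgroup G) : Set G)).map f =
      Subgroup.normalizer (((P : Subgroup G).map f : Subgroup H) : Set H) := by
  refine le_antisymm (Subgroup.le_normalizer_map f) fun y hy => ?_
  obtain ⟨n, hn, rfl⟩ := mem_map_normalizer f hf P hy
  exact Subgroup.mem_map_of_mem f hn

theorem mem_inertia {V : Subgroup G} [V.Normal] {θ : V → ℂ} {g : G} :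
    g ∈ inertia V θ ↔ Clifford.conjBy V g θ = θ := Iff.rfl

/-- Conjugate functions invariant under a Sylow subgroup are conjugate in its normalizer. -/
theorem exists_normalizer_conj [Finite G] {p : ℕ} [Fact p.Prime] (P : Sylow p G)
    (V : Subgroup G) [V.Normal] (θ : V → ℂ) (g : G)
    (h1 : ∀ x ∈ (P : Subgroup G), Clifford.conjBy V x θ = θ)
    (h2 : ∀ x ∈ (P : Subgroup G),
      Clifford.conjBy V x (Clifford.conjBy V g θ) = Clifford.conjBy V g θ) :
    ∃ n ∈ Subgroup.normalizer ((P : Subgroup G) : Set G),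
      Clifford.conjBy V n θ = Clifford.conjBy V g θ := by
  set T := inertia V θ with hTdef
  have hP : (P : Subgroup G) ≤ T := h1
  have hgP : ((g • P : Sylow p G) : Subgroup G) ≤ T := by
    intro a ha
    rw [Sylow.coe_subgroup_smul, Subgroup.mem_smul_pointwise_iff_exists] at ha
    obtain ⟨q, hq, rfl⟩ := ha
    show Clifford.conjBy V (g * q * g⁻¹) θ = θ
    rw [← Clifford.conjBy_conjBy, ← Clifford.conjBy_conjBy V q g, h2 q hq,
      Clifford.conjBy_conjBy, mul_inv_cancel, Clifford.conjBy_one]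
  obtain ⟨t, ht⟩ := MulAction.exists_smul_eq T ((g • P).subtype hgP) (P.subtype hP)
  rw [Sylow.smul_subtype] at ht
  have h := Sylow.subtype_injective ht
  rw [Subgroup.smul_def, smul_smul] at h
  refine ⟨(t : G) * g, Sylow.smul_eq_iff_mem_normalizer.mp h, ?_⟩
  rw [← Clifford.conjBy_conjBy, mem_inertia.mp t.2]

/-- A conjugate of a linear character, as a homomorphism. -/
def conjLin (V : Subgroup G) [V.Normal] (g : G) (lam : V →* ℂˣ) : V →* ℂˣ :=
  lam.comp (MulAut.conjNormal g : V ≃* V).toMonoidHom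

theorem lin_conjLin (V : Subgroup G) [V.Normal] (g : G) (lam : V →* ℂˣ) :
    lin (conjLin V g lam) = Clifford.conjBy V g (lin lam) := by
  funext n
  show (lam _ : ℂ) = (lam _ : ℂ)
  exact congrArg (fun z => (lam z : ℂ)) (Subtype.ext (by simp))

theorem lin_injective {H : Type u} [Group H] :
    Function.Injective (lin : (H →* ℂˣ) → H → ℂ) :=
  fun _ _ h => MonoidHom.ext fun x => Units.ext (congrFun h x)

/-- `lam` extends to a character of `P` of order at most two. -/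
def Ext (V P : Subgroup G) (lam : V →* ℂˣ) : Prop :=
  ∃ η : P →* ℂˣ, (∀ x, η x ^ 2 = 1) ∧ ∀ (v : V) (h : (v : G) ∈ P), η ⟨(v : G), h⟩ = lam v

theorem fixed_of_ext {V P : Subgroup G} [hV : V.Normal] (hVP : V ≤ P) {η : P →* ℂˣ}
    {lam : V →* ℂˣ} (h : ∀ (v : V) (hv : (v : G) ∈ P), η ⟨(v : G), hv⟩ = lam v) {x : G}
    (hx : x ∈ P) : Clifford.conjBy V x (lin lam) = lin lam := by
  funext v
  rw [Clifford.conjBy_apply]
  show (lam _ : ℂ) = (lam v : ℂ)
  rw [← h ⟨x * v * x⁻¹, hV.conj_mem _ v.2 x⟩ (hVP (hV.conj_mem _ v.2 x)), ← h v (hVP v.2)]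
  rw [show (⟨x * (v : G) * x⁻¹, hVP (hV.conj_mem _ v.2 x)⟩ : P) =
    ⟨x, hx⟩ * ⟨(v : G), hVP v.2⟩ * ⟨x, hx⟩⁻¹ from rfl, map_mul, map_mul, map_inv,
    mul_comm (η ⟨x, hx⟩), mul_inv_cancel_right]

/-- A real invariant linear character extending to a Sylow `2`-subgroup extends. -/
theorem exists_ext_real [Finite G] (V : Subgroup G) [hV : V.Normal] (Q : Subgroup G) (hVQ : V ≤ Q)
    (hodd : Odd Q.index) (lam : V →* ℂˣ)
    (hinv : ∀ g : G, Clifford.conjBy V g (lin lam) = lin lam) (η : Q →* ℂˣ)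
    (hη2 : ∀ x, η x ^ 2 = 1) (hη : ∀ v : V, η ⟨(v : G), hVQ v.2⟩ = lam v) :
    ∃ μ : G →* ℂˣ, (∀ x, μ x ^ 2 = 1) ∧ ∀ v : V, μ (v : G) = lam v := by
  refine ⟨MonoidHom.transfer η, fun g => ?_, fun v => ?_⟩
  · haveI := Fintype.ofFinite (Quotient (MulAction.orbitRel (Subgroup.zpowers g) (G ⧸ Q)))
    rw [MonoidHom.transfer_eq_prod_quotient_orbitRel_zpowers_quot, ← Finset.prod_pow,
      Finset.prod_congr rfl fun q _ => hη2 _, Finset.prod_const_one]
  · rw [ExtendChar.transfer_linear V lam (fun g n => Units.ext (congrFun (hinv g) n)) Q hVQ η hη v]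
    obtain ⟨k, hk⟩ := hodd
    have h2 : lam v ^ 2 = 1 := hη v ▸ hη2 _
    rw [hk, pow_succ, pow_mul, h2, one_pow, one_mul]

variable [Fintype G] (V : Subgroup G) [hV : V.Normal] [Fintype V]

/-- The Clifford correspondent of a character over a linear character. -/
theorem exists_corr (lam : V →* ℂˣ) (T : Subgroup G) [Fintype T]
    (hT : T = inertia V (lin lam)) (hVT : V ≤ T) {χ : Cfsg.IrrCharacter G}
    (hc : Cfsg.classInner (fun v : V => (χ : G → ℂ) v) (lin lam) ≠ 0) :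
    ∃ ψ : Cfsg.IrrCharacter T, Cfsg.indFun T (ψ : T → ℂ) = (χ : G → ℂ) ∧
      ∀ v : V, (ψ : T → ℂ) ⟨(v : G), hVT v.2⟩ = (ψ : T → ℂ) 1 * lin lam v := by
  subst hT
  obtain ⟨ψ, hψ, hind, heq⟩ := Cfsg.Agent.S0854.result V (lin lam) (lin_irr lam)
    (inertia V (lin lam)) (fun g => funext_iff) hVT χ χ.2 hc
  refine ⟨⟨ψ, hψ⟩, hind, fun v => ?_⟩
  haveI := Fintype.ofFinite (V.subgroupOf (inertia V (lin lam)))
  let e := Subgroup.subgroupOfEquivOfLe hVT
  have h1 : Cfsg.classInner (fun w : V.subgroupOf (inertia V (lin lam)) => ψ w) (lin lam ∘ e) ≠ 0 :=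
    by
      rw [← heq, ← Basics.classInner_comp_equiv e] at hc
      exact hc
  have hres := Clifford.restrict_eq_smul_of_invariant (V.subgroupOf (inertia V (lin lam))) hψ
    (Basics.isIrrCharacter_comp_equiv e (lin_irr lam)) h1 fun g => funext fun w =>
      congrFun (mem_inertia.mp g.2) (e w)
  have ha := congrFun hres 1
  have hb := congrFun hres ⟨⟨(v : G), hVT v.2⟩, v.2⟩
  simp only [Pi.smul_apply, smul_eq_mul, Function.comp_apply, OneMemClass.coe_one, map_one] at ha hb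
  have h0 : lin lam 1 = 1 := by simp [lin]
  rw [h0, mul_one] at ha
  show ψ _ = ψ 1 * lin lam v
  rw [ha]
  exact hb

/-- Correspondents are unique. -/
theorem corr_unique (lam : V →* ℂˣ) (T : Subgroup G) [Fintype T]
    (hT : T = inertia V (lin lam)) (hVT : V ≤ T) (ψ ψ' : Cfsg.IrrCharacter T)
    (h : ∀ v : V, (ψ : T → ℂ) ⟨(v : G), hVT v.2⟩ = (ψ : T → ℂ) 1 * lin lam v)
    (h' : ∀ v : V, (ψ' : T → ℂ) ⟨(v : G), hVT v.2⟩ = (ψ' : T → ℂ) 1 * lin lam v) :
    Cfsg.IsIrrCharacter G (Cfsg.indFun T (ψ : T → ℂ)) ∧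
      Cfsg.classInner (fun v : V => Cfsg.indFun T (ψ : T → ℂ) v) (lin lam) ≠ 0 ∧
      (Cfsg.indFun T (ψ : T → ℂ) = Cfsg.indFun T (ψ' : T → ℂ) → ψ = ψ') := by
  subst hT
  have key : ∀ φ : Cfsg.IrrCharacter (inertia V (lin lam)),
      (∀ v : V, (φ : inertia V (lin lam) → ℂ) ⟨(v : G), hVT v.2⟩ =
        (φ : inertia V (lin lam) → ℂ) 1 * lin lam v) →
      Cfsg.classInner (fun v : V => (φ : inertia V (lin lam) → ℂ) ⟨(v : G), hVT v.2⟩) (lin lam)
        ≠ 0 := by
    intro φ hφ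
    rw [show (fun v : V => (φ : inertia V (lin lam) → ℂ) ⟨(v : G), hVT v.2⟩) =
      (φ : inertia V (lin lam) → ℂ) 1 • lin lam from funext hφ, classInner_smul_left,
      classInner_isIrr_self (lin_irr lam), mul_one]
    exact irr_one_ne_zero φ.2
  have key2 : ∀ φ : Cfsg.IrrCharacter (inertia V (lin lam)),
      (∀ v : V, (φ : inertia V (lin lam) → ℂ) ⟨(v : G), hVT v.2⟩ =
        (φ : inertia V (lin lam) → ℂ) 1 * lin lam v) →
      Cfsg.classInner (Cfsg.indFun (V.subgroupOf (inertia V (lin lam)))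
        (fun x => lin lam ⟨(x : inertia V (lin lam)), Subgroup.mem_subgroupOf.mp x.2⟩))
        (φ : inertia V (lin lam) → ℂ) ≠ 0 := by
    intro φ hφ
    rw [OddChar.Clifford.inner_ind_subgroupOf V _ hVT _
      (char_isClassFunction (irr_isCharacter φ)), classInner_conj_symm, Ne, map_eq_zero]
    exact key φ hφ
  obtain ⟨hirr, hinj⟩ := Cfsg.Agent.S1489.result V (inertia V (lin lam)) (lin lam) (lin_irr lam)
    (fun g => funext_iff) hVT (ψ : inertia V (lin lam) → ℂ) (ψ' : inertia V (lin lam) → ℂ) ψ.2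
    ψ'.2 (key2 ψ h) (key2 ψ' h')
  refine ⟨hirr, ?_, fun he => Subtype.ext (hinj he)⟩
  exact inner_trans hVT (isCharacter_of_isIrr hirr) ψ.2 (isCharacter_of_isIrr (lin_irr lam))
    (inner_ind_self hirr) (key ψ h)

/-- Twisting by a linear character of order at most two. -/
noncomputable def twist {H : Type u} [Group H] [Fintype H] (μ : H →* ℂˣ) (hμ2 : ∀ x, μ x ^ 2 = 1) :
    RO H ≃ RO H :=
  have hstep : ∀ ψ : RO H, IsReal ((ψ.1 : H → ℂ) * lin μ) ∧
      Odd (Cfsg.charDegree ((ψ.1 : H → ℂ) * lin μ)) := fun ψ => by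
    refine ⟨fun x => ?_, ?_⟩
    · rw [Pi.mul_apply, Complex.mul_im, ψ.2.1 x, sq_eq_one_real μ hμ2 x]; ring
    · rw [charDegree_congr (ψ := (ψ.1 : H → ℂ)) (by simp [lin])]
      exact ψ.2.2
  have hinv : Function.Involutive (fun ψ : RO H =>
      (⟨⟨(ψ.1 : H → ℂ) * lin μ, Basics.isIrr_mul_linear ψ.1.2 (isCharacter_linear μ)
        (by simp [lin])⟩, hstep ψ⟩ : RO H)) := fun ψ => by
    refine Subtype.ext (Subtype.ext (funext fun x => ?_))
    show (ψ.1 : H → ℂ) x * lin μ x * lin μ x = (ψ.1 : H → ℂ) x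
    rw [mul_assoc, lin, ← Units.val_mul, ← pow_two, hμ2, Units.val_one, mul_one]
  hinv.toPerm _

theorem twist_apply {H : Type u} [Group H] [Fintype H] (μ : H →* ℂˣ) (hμ2 : ∀ x, μ x ^ 2 = 1)
    (ψ : RO H) (x : H) : ((twist μ hμ2 ψ).1 : H → ℂ) x = (ψ.1 : H → ℂ) x * lin μ x := rfl

theorem charDegree_ind (T : Subgroup G) [Fintype T] (ψ : Cfsg.IrrCharacter T) :
    Cfsg.charDegree (Cfsg.indFun T (ψ : T → ℂ)) = T.index * Cfsg.charDegree (ψ : T → ℂ) :=
  charDegree_eq (by rw [indFun_one, ← Blocks.charDegree_cast ψ, Nat.cast_mul])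

/-- Real odd-degree characters over `lam` against those of the inertia group. -/
theorem card_corr (lam : V →* ℂˣ) (hlam : IsReal (lin lam)) (T : Subgroup G) [Fintype T]
    (hT : T = inertia V (lin lam)) (hVT : V ≤ T) (hodd : Odd T.index) :
    Nat.card {χ : RO G // Cfsg.classInner (fun v : V => (χ.1 : G → ℂ) v) (lin lam) ≠ 0} =
      Nat.card {ψ : RO T //
        ∀ v : V, (ψ.1 : T → ℂ) ⟨(v : G), hVT v.2⟩ = (ψ.1 : T → ℂ) 1 * lin lam v} := by
  let D := {ψ : RO T //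
    ∀ v : V, (ψ.1 : T → ℂ) ⟨(v : G), hVT v.2⟩ = (ψ.1 : T → ℂ) 1 * lin lam v}
  have h1 : ∀ ψ : D, Cfsg.IsIrrCharacter G (Cfsg.indFun T (ψ.1.1 : T → ℂ)) ∧
      Cfsg.classInner (fun v : V => Cfsg.indFun T (ψ.1.1 : T → ℂ) v) (lin lam) ≠ 0 := fun ψ =>
    ⟨(corr_unique V lam T hT hVT ψ.1.1 ψ.1.1 ψ.2 ψ.2).1,
      (corr_unique V lam T hT hVT ψ.1.1 ψ.1.1 ψ.2 ψ.2).2.1⟩
  have h2 : ∀ ψ : D, IsReal (Cfsg.indFun T (ψ.1.1 : T → ℂ)) ∧
      Odd (Cfsg.charDegree (Cfsg.indFun T (ψ.1.1 : T → ℂ))) := fun ψ =>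
    ⟨isReal_indFun ψ.1.2.1, by rw [charDegree_ind]; exact hodd.mul ψ.1.2.2⟩
  refine (Nat.card_eq_of_bijective (fun ψ : D => (⟨⟨⟨_, (h1 ψ).1⟩, h2 ψ⟩, (h1 ψ).2⟩ :
      {χ : RO G // Cfsg.classInner (fun v : V => (χ.1 : G → ℂ) v) (lin lam) ≠ 0}))
    ⟨fun a b he => ?_, fun χ => ?_⟩).symm
  · exact Subtype.ext (Subtype.ext ((corr_unique V lam T hT hVT a.1.1 b.1.1 a.2 b.2).2.2
      (congrArg (fun z => ((z.1).1 : G → ℂ)) he)))
  · obtain ⟨φ, hind, hφ⟩ := exists_corr V lam T hT hVT χ.2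
    have hr : IsReal (φ : T → ℂ) := by
      have hc : ∀ v : V, conj ((φ : T → ℂ) ⟨(v : G), hVT v.2⟩) =
          conj ((φ : T → ℂ) 1) * lin lam v := fun v => by
        rw [hφ v, map_mul, Complex.conj_eq_iff_im.mpr (hlam v)]
      rw [isReal_iff]
      exact (congrArg Subtype.val
        ((corr_unique V lam T hT hVT φ ⟨_, isIrrCharacter_conj φ.2⟩ hφ hc).2.2
          (by rw [indFun_conj, hind, isReal_iff.mp χ.1.2.1]))).symm
    have ho : Odd (Cfsg.charDegree (φ : T → ℂ)) := by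
      have h := χ.1.2.2
      rw [← hind, charDegree_ind] at h
      exact (Nat.odd_mul.mp h).2
    exact ⟨⟨⟨φ, hr, ho⟩, hφ⟩, Subtype.ext (Subtype.ext (Subtype.ext hind))⟩

/-- Real odd-degree characters over `lam` are the real odd-degree characters of the inertia group
trivial on `V`. -/
theorem card_over (lam : V →* ℂˣ) (T : Subgroup G) (hT : T = inertia V (lin lam)) (hVT : V ≤ T)
    (hodd : Odd T.index) (μ : T →* ℂˣ) (hμ2 : ∀ x, μ x ^ 2 = 1)
    (hμ : ∀ v : V, μ ⟨(v : G), hVT v.2⟩ = lam v) :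
    Nat.card {χ : RO G // Cfsg.classInner (fun v : V => (χ.1 : G → ℂ) v) (lin lam) ≠ 0} =
      Nat.card {ψ : RO T // ∀ x ∈ V.subgroupOf T, (ψ.1 : T → ℂ) x = (ψ.1 : T → ℂ) 1} := by
  haveI := Fintype.ofFinite T
  have hμv : ∀ v : V, lin μ ⟨(v : G), hVT v.2⟩ = lin lam v := fun v => by
    show (μ _ : ℂ) = (lam v : ℂ)
    rw [hμ]
  have hl1 : lin μ 1 = 1 := by simp [lin]
  have hlam : IsReal (lin lam) := fun v => hμv v ▸ sq_eq_one_real μ hμ2 _
  rw [card_corr V lam hlam T hT hVT hodd]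
  refine Nat.card_congr ((twist μ hμ2).subtypeEquiv fun ψ => ?_)
  constructor
  · intro h x hx
    rw [twist_apply, twist_apply, hl1, mul_one]
    obtain ⟨v, rfl⟩ : ∃ v : V, (⟨(v : G), hVT v.2⟩ : T) = x := ⟨⟨(x : G), hx⟩, rfl⟩
    rw [h v, hμv, mul_assoc, ← hμv, lin, ← Units.val_mul, ← pow_two, hμ2, Units.val_one, mul_one]
  · intro h v
    have h' := h ⟨(v : G), hVT v.2⟩ v.2
    rw [twist_apply, twist_apply, hl1, mul_one, hμv] at h'
    rw [← h', mul_assoc, ← hμv, lin, ← Units.val_mul, ← pow_two, hμ2, Units.val_one, mul_one]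

/-- A group acts on linear characters with Sylow fixed points: the count splits along
representatives. -/
theorem card_RO_sum (P : Sylow 2 G) (hVP : V ≤ (P : Subgroup G)) {ι : Type u} [Fintype ι]
    (lam : ι → V →* ℂˣ)
    (hcover : ∀ l : V →* ℂˣ, Ext V (P : Subgroup G) l →
      ∃ i g, Clifford.conjBy V g (lin (lam i)) = lin l)
    (huniq : ∀ i j g, Clifford.conjBy V g (lin (lam i)) = lin (lam j) → i = j) :
    Nat.card (RO G) = ∑ i,
      Nat.card {χ : RO G // Cfsg.classInner (fun v : V => (χ.1 : G → ℂ) v) (lin (lam i)) ≠ 0} := by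
  classical
  haveI : Finite (RO G) := Subtype.finite
  rw [← Nat.card_sigma]
  refine (Nat.card_eq_of_bijective (fun z : (i : ι) × {χ : RO G //
    Cfsg.classInner (fun v : V => (χ.1 : G → ℂ) v) (lin (lam i)) ≠ 0} => z.2.1)
    ⟨fun a b he => ?_, fun χ => ?_⟩).symm
  · obtain ⟨i, a, ha⟩ := a
    obtain ⟨j, b, hb⟩ := b
    simp only at he
    subst he
    obtain ⟨g, hg⟩ := Clifford.exists_conjBy_eq V a.1.2 (lin_irr (lam i)) (lin_irr (lam j)) ha hb
    obtain rfl := huniq i j g hg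
    rfl
  · obtain ⟨η, hη, hη2⟩ := exists_linear_constituent (P : Subgroup G) P.isPGroup' χ.2.2
    set l : V →* ℂˣ := η.comp (Subgroup.inclusion hVP) with hl
    have hcl : Cfsg.classInner (fun v : V => (χ.1 : G → ℂ) v) (lin l) ≠ 0 := by
      refine inner_trans hVP (irr_isCharacter χ.1) (lin_irr η)
        (isCharacter_of_isIrr (lin_irr l)) hη ?_
      rw [show (fun v : V => lin η ⟨(v : G), hVP v.2⟩) = lin l from rfl,
        classInner_isIrr_self (lin_irr l)]
      exact one_ne_zero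
    obtain ⟨i, g, hg⟩ := hcover l ⟨η, hη2 χ.2.1, fun v h => rfl⟩
    refine ⟨⟨i, χ, ?_⟩, rfl⟩
    rw [← hg, Clifford.classInner_restrict_conjBy V
      (char_isClassFunction (irr_isCharacter χ.1))] at hcl
    exact hcl

end Cfsg.Agent.BlockCharsA.RealOdd
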